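import Cfsg.Agent.S2579

/-!
# Transvections are conjugate in GL_n

* `exists_gl_conj` : two rank-one square-zero matrices are conjugate by an element of `GL_n`
* `vecMulVec_form`, `vecMulVec_unique` : `N = v φᵀ`, unique up to a scalar
-/

set_option autoImplicit false

namespace Cfsg.Agent.TransvConj

open Matrix

theorem exists_gl_conj {F : Type*} [Field F] {n : ℕ} (N N' : Matrix (Fin n) (Fin n) F)
    (h : N.rank = 1) (hsq : N * N = 0) (h' : N'.rank = 1) (hsq' : N' * N' = 0) :
    ∃ g : GL (Fin n) F, (g : Matrix (Fin n) (Fin n) F) * N = N' * (g : Matrix (Fin n) (Fin n) F) := by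
  classical
  obtain ⟨v, a, φ, hv, hφv, hφa, hNx⟩ := S2579.transvection_form N h hsq
  obtain ⟨v', a', φ', hv', hφv', hφa', hNx'⟩ := S2579.transvection_form N' h' hsq'
  have hdimK : ∀ (χ : (Fin n → F) →ₗ[F] F) (b : Fin n → F), χ b = 1 →
      Module.finrank F (LinearMap.ker χ) = n - 1 := by
    intro χ b hb
    have h1 := LinearMap.finrank_range_add_finrank_ker χ
    have h2 : LinearMap.range χ = ⊤ :=
      LinearMap.range_eq_top.mpr fun c => ⟨c • b, by simp [hb]⟩
    rw [h2, finrank_top, Module.finrank_self, Module.finrank_fin_fun] at h1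
    omega
  obtain ⟨σ, hσ⟩ := S2579.exists_equiv_apply_eq (U := LinearMap.ker φ) (U' := LinearMap.ker φ')
    ((hdimK φ a hφa).trans (hdimK φ' a' hφa').symm) ⟨v, hφv⟩ ⟨v', hφv'⟩
    (fun h => hv (congrArg Subtype.val h)) (fun h => hv' (congrArg Subtype.val h))
  let p : (Fin n → F) →ₗ[F] LinearMap.ker φ :=
    (LinearMap.id - φ.smulRight a).codRestrict _ (fun x => by simp [hφa])
  have hp : ∀ x, ((p x : LinearMap.ker φ) : Fin n → F) = x - φ x • a := fun x => rfl
  let g : (Fin n → F) →ₗ[F] (Fin n → F) :=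
    (LinearMap.ker φ').subtype ∘ₗ (σ : LinearMap.ker φ →ₗ[F] LinearMap.ker φ') ∘ₗ p
      + φ.smulRight a'
  have hgφ : ∀ x, φ' (g x) = φ x := by
    intro x
    have : φ' ((σ (p x) : LinearMap.ker φ') : Fin n → F) = 0 := (σ (p x)).2
    simp [g, this, hφa']
  have hgv : g v = v' := by
    have : p v = ⟨v, hφv⟩ := Subtype.ext (by simp [hp, hφv])
    simp [g, this, hσ, hφv]
  have hginj : Function.Injective g := by
    rw [← LinearMap.ker_eq_bot, LinearMap.ker_eq_bot']
    intro x hx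
    have h0 : φ x = 0 := by rw [← hgφ, hx, map_zero]
    have h1 : σ (p x) = 0 := by
      apply Subtype.ext
      simpa [g, h0] using hx
    have h2 := congrArg Subtype.val ((LinearEquiv.map_eq_zero_iff σ).mp h1)
    rw [hp, h0, zero_smul, sub_zero] at h2
    exact h2
  have hu : IsUnit (LinearMap.toMatrix' g) := by
    rw [← Matrix.mulVec_injective_iff_isUnit]
    intro x y hxy
    exact hginj (by simpa [LinearMap.toMatrix'_mulVec] using hxy)
  refine ⟨hu.unit, ?_⟩
  rw [IsUnit.unit_spec]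
  apply Matrix.ext_of_mulVec_single
  intro i
  rw [← Matrix.mulVec_mulVec, ← Matrix.mulVec_mulVec, hNx, hNx',
    LinearMap.toMatrix'_mulVec, LinearMap.toMatrix'_mulVec, map_smul, hgv, hgφ]

theorem vecMulVec_form {F : Type*} [Field F] {n : ℕ} (N : Matrix (Fin n) (Fin n) F)
    (h : N.rank = 1) (hsq : N * N = 0) :
    ∃ v φ : Fin n → F, v ≠ 0 ∧ φ ≠ 0 ∧ φ ⬝ᵥ v = 0 ∧ N = Matrix.vecMulVec v φ := by
  classical
  obtain ⟨v, a, φ, hv, hφv, hφa, hNx⟩ := S2579.transvection_form N h hsq
  have hdot : ∀ x, (fun j => φ (Pi.single j 1)) ⬝ᵥ x = φ x := by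
    intro x
    conv_rhs => rw [pi_eq_sum_univ' x]
    rw [map_sum]
    refine Finset.sum_congr rfl fun j _ => ?_
    rw [map_smul, smul_eq_mul, mul_comm]
  refine ⟨v, fun j => φ (Pi.single j 1), hv, ?_, ?_, ?_⟩
  · intro h0
    have := hdot a
    rw [h0, zero_dotProduct, hφa] at this
    exact zero_ne_one this
  · rw [hdot, hφv]
  · apply Matrix.ext_of_mulVec_single
    intro i
    rw [hNx, Matrix.vecMulVec_mulVec, hdot]
    funext k
    simp [mul_comm]

theorem vecMulVec_unique {F : Type*} [Field F] {ι : Type*} {v v' φ φ' : ι → F}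
    (hv : v ≠ 0) (hv' : v' ≠ 0) (hφ : φ ≠ 0) (h : Matrix.vecMulVec v φ = Matrix.vecMulVec v' φ') :
    ∃ c : Fˣ, v' = (c : F) • v ∧ φ' = (↑(c⁻¹) : F) • φ := by
  obtain ⟨j, hj⟩ := Function.ne_iff.mp hφ
  obtain ⟨i, hi⟩ := Function.ne_iff.mp hv
  obtain ⟨i', hi'⟩ := Function.ne_iff.mp hv'
  have he : ∀ a b, v a * φ b = v' a * φ' b := fun a b => congrFun (congrFun h a) b
  have hφ'j : φ' j ≠ 0 := by
    intro h0
    have := he i j
    rw [h0, mul_zero] at this
    exact mul_ne_zero hi hj this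
  refine ⟨Units.mk0 (φ j / φ' j) (div_ne_zero hj hφ'j), ?_, ?_⟩
  · funext a
    simp only [Pi.smul_apply, smul_eq_mul, Units.val_mk0]
    field_simp
    linear_combination -(he a j)
  · funext b
    simp only [Pi.smul_apply, smul_eq_mul, Units.val_inv_eq_inv_val, Units.val_mk0, inv_div]
    have h1 := he i' b
    have h2 := he i' j
    have hj' : φ j ≠ 0 := hj
    have h3 : φ' b * φ j = φ' j * φ b := by
      refine mul_left_cancel₀ hi' ?_
      linear_combination φ b * h2 - φ j * h1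
    rw [div_mul_eq_mul_div, eq_div_iff hj']
    exact h3

end Cfsg.Agent.TransvConj
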